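import Groth.Agent.DefVBLib.Kernel
import Groth.Agent.DegDevLib.Frame
import Groth.Agent.AmpleLib.Pullback

/-!
# An ideal killed by the ideal of a smaller closed subscheme, with independent generators
-/

set_option autoImplicit false
set_option backward.isDefEq.respectTransparency false
set_option linter.style.haveILetI false
set_option maxHeartbeats 1000000

universe u

open CategoryTheory CategoryTheory.Limits AlgebraicGeometry TopologicalSpace Opposite
open Groth.Agent.PullbackMod Groth.Agent.DCohLib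

noncomputable section

namespace Groth.Agent.DefVBLib

variable {X X₀ : Scheme.{u}} (I : X.IdealSheafData)

theorem germ_eq_smul_oneG (z : X) (r : Γ(X, ⊤)) :
    (Coh.structureModule X).presheaf.germ ⊤ z trivial (show Γ(Coh.structureModule X, ⊤) from r) =
      (X.presheaf.germ ⊤ z trivial).hom r • ParaFLib.oneG z := by
  refine Eq.trans ?_ (ParaFLib.germ_smul' (M := Coh.structureModule X) (U := ⊤) z trivial r (1 : Γ(X, ⊤)))
  exact congrArg _ (ParaFLib.smul_one_eq _).symm

theorem exists_section {e : Γ(X, ⊤)} (he : I.subschemeι.appTop e = 0) :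
    ∃ s : Γ(ClSub.idealMod I, ⊤), ∀ z : X,
      LiftVBLib.idealIncl I z ((ClSub.idealMod I).presheaf.germ ⊤ z trivial s) = (X.presheaf.germ ⊤ z trivial).hom e := by
  have h0 : DCohLib.secHom (Coh.structureModule X) (show Γ(Coh.structureModule X, ⊤) from e) ≫
      ClSub.toSubscheme I = 0 := by
    refine DCohLib.hom_unit_ext ?_
    refine (congrArg ((ClSub.toSubscheme I).app ⊤) ((DCohLib.secHom_app_one _ _ ⊤).trans (ParaFLib.res_self _ _))).trans ?_
    exact he
  have hs : (ClSub.idealModι I).app ⊤ ((kernel.lift (ClSub.toSubscheme I) _ h0).app ⊤ (1 : Γ(X, ⊤))) =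
      (show Γ(Coh.structureModule X, ⊤) from e) := by
    refine (congrArg (fun φ : Coh.structureModule X ⟶ Coh.structureModule X => φ.app ⊤ (1 : Γ(X, ⊤)))
      (kernel.lift_ι (ClSub.toSubscheme I) _ h0)).trans ?_
    exact (DCohLib.secHom_app_one _ _ ⊤).trans (ParaFLib.res_self _ _)
  refine ⟨(kernel.lift (ClSub.toSubscheme I) _ h0).app ⊤ (1 : Γ(X, ⊤)), fun z => ?_⟩
  refine (ParaFLib.bijective_oneG z).1 ?_
  refine (LiftVBLib.idealIncl_smul I z _).trans ((stalkLin_germ _ (U := ⊤) z trivial _).trans ?_)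
  rw [hs]
  exact germ_eq_smul_oneG z e

theorem stalkLin_secHom_oneG {Y : Scheme.{u}} (G : Y.Modules) (g : Γ(G, ⊤)) (y : Y) :
    stalkLin (DCohLib.secHom G g) y (ParaFLib.oneG y) = G.presheaf.germ ⊤ y trivial g := by
  refine (stalkLin_germ (DCohLib.secHom G g) (U := ⊤) y trivial (1 : Γ(Y, ⊤))).trans ?_
  exact congrArg _ ((DCohLib.secHom_app_one G g ⊤).trans (ParaFLib.res_self _ _))

/-- A closed immersion whose ideal kills a module: the unit is an isomorphism. -/
theorem isIso_unit_of_kill {Y : Scheme.{u}} (t : X₀ ⟶ Y) [IsClosedImmersion t] [Surjective t] (N : Y.Modules)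
    (h : ∀ w : X₀, ∀ q ∈ RingHom.ker (t.stalkMap w).hom, ∀ m : N.presheaf.stalk (t w), q • m = 0) :
    IsIso ((Scheme.Modules.pullbackPushforwardAdjunction t).unit.app N) := by
  refine (isIso_iff_stalk _).2 fun y => ?_
  obtain ⟨w, rfl⟩ := t.surjective y
  refine ⟨(injective_iff_map_eq_zero _).2 fun n hn => ?_, JetLib.surjective_unit_stalk t N w⟩
  exact Submodule.smul_induction_on ((JetLib.unit_stalk_eq_zero_iff t N w n).1 hn) (p := fun v => v = 0)
    (fun q hq m _ => h w q hq m) (fun _ _ ha hb => by rw [ha, hb, add_zero])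

/-- A module killed by the ideal, with independent generators, restricts to a free module. -/
theorem nonempty_pullback_free (j : X₀ ⟶ X) [IsClosedImmersion j] (M : X.Modules) {d : ℕ} (s : Fin d → Γ(M, ⊤))
    (hspan : ∀ (w : X₀) (a : M.presheaf.stalk (j w)), ∃ c : Fin d → X.presheaf.stalk (j w),
      a = ∑ l, c l • M.presheaf.germ ⊤ (j w) trivial (s l))
    (hkill : ∀ (w : X₀) (r : X.presheaf.stalk (j w)), r ∈ RingHom.ker (j.stalkMap w).hom →
      ∀ a : M.presheaf.stalk (j w), r • a = 0)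
    (hrel : ∀ (w : X₀) (c : Fin d → X.presheaf.stalk (j w)),
      ∑ l, c l • M.presheaf.germ ⊤ (j w) trivial (s l) = 0 → ∀ l, c l ∈ RingHom.ker (j.stalkMap w).hom) :
    Nonempty ((Scheme.Modules.pullback j).obj M ≅ FlatMod.freeMod X₀ d) := by
  classical
  let G := (Scheme.Modules.pullback j).obj M
  let g : Fin d → Γ(G, ⊤) := fun l => pullMap j M (W := ⊤) (W' := ⊤) (fun _ _ => trivial) (s l)
  let ψ : FlatMod.freeMod X₀ d ⟶ G := Sigma.desc fun l => DCohLib.secHom G (g l)
  have hτ : ∀ w l, stalkLin ψ w (DegDevLib.stdGerm d w l) = pullStalk j M w (M.presheaf.germ ⊤ (j w) trivial (s l)) := by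
    intro w l
    rw [DegDevLib.stdGerm, ← LinearMap.comp_apply, ← stalkLin_comp, Sigma.ι_desc, stalkLin_secHom_oneG]
    exact (pullStalk_germ' j M w (W := ⊤) (W' := ⊤) trivial trivial (fun _ _ => trivial) (s l)).symm
  have hsum : ∀ w (c : Fin d → X.presheaf.stalk (j w)),
      stalkLin ψ w (Fintype.linearCombination (X₀.presheaf.stalk w) (DegDevLib.stdGerm d w)
        (fun l => j.stalkMap w (c l))) = pullStalk j M w (∑ l, c l • M.presheaf.germ ⊤ (j w) trivial (s l)) := by
    intro w c
    rw [Fintype.linearCombination_apply, map_sum, map_sum]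
    refine Finset.sum_congr rfl fun l _ => ?_
    rw [map_smul, hτ, pullStalk_smul]
  haveI : IsIso ψ := by
    refine (isIso_iff_stalk ψ).2 fun w => ⟨(injective_iff_map_eq_zero _).2 fun v hv => ?_, fun z => ?_⟩
    · obtain ⟨c', rfl⟩ := (DegDevLib.stdGerm_bijective d w).2 v
      choose c hc using fun l => j.stalkMap_surjective w (c' l)
      obtain rfl : (fun l => j.stalkMap w (c l)) = c' := funext hc
      rw [hsum] at hv
      have h0 : ∑ l, c l • M.presheaf.germ ⊤ (j w) trivial (s l) = 0 :=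
        Submodule.smul_induction_on ((JetLib.pullStalk_eq_zero_iff j M w _).1 hv) (p := fun v => v = 0)
          (fun q hq m _ => hkill w q hq m) (fun _ _ ha hb => by rw [ha, hb, add_zero])
      rw [show (fun l => j.stalkMap w (c l)) = 0 from funext fun l => RingHom.mem_ker.1 (hrel w c h0 l), map_zero]
    · obtain ⟨a, rfl⟩ := JetLib.surjective_pullStalk j M w z
      obtain ⟨c, rfl⟩ := hspan w a
      exact ⟨_, hsum w c⟩
  exact ⟨(asIso ψ).symm⟩

theorem nonempty_idealMod_iso (t : X₀ ⟶ I.subscheme) [IsClosedImmersion t] [Surjective t] {d : ℕ} (e : Fin d → Γ(X, ⊤))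
    (he : ∀ l, I.subschemeι.appTop (e l) = 0)
    (hgen : ∀ w : X₀, IntMult.stalkIdeal I ((t ≫ I.subschemeι) w) ≤
      Ideal.span (Set.range fun l => (X.presheaf.germ ⊤ ((t ≫ I.subschemeι) w) trivial).hom (e l)))
    (hkill : ∀ w : X₀, ∀ r ∈ RingHom.ker ((t ≫ I.subschemeι).stalkMap w).hom,
      ∀ l, r * (X.presheaf.germ ⊤ ((t ≫ I.subschemeι) w) trivial).hom (e l) = 0)
    (hrel : ∀ (w : X₀) (r : Fin d → X.presheaf.stalk ((t ≫ I.subschemeι) w)),
      ∑ l, (X.presheaf.germ ⊤ ((t ≫ I.subschemeι) w) trivial).hom (e l) * r l = 0 →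
        ∀ l, r l ∈ RingHom.ker ((t ≫ I.subschemeι).stalkMap w).hom) :
    Nonempty ((Scheme.Modules.pullback I.subschemeι).obj (ClSub.idealMod I) ≅
      (Scheme.Modules.pushforward t).obj (FlatMod.freeMod X₀ d)) := by
  choose s hs using fun l => exists_section I (he l)
  have hspan : ∀ (w : X₀) (a : (ClSub.idealMod I).presheaf.stalk ((t ≫ I.subschemeι) w)),
      ∃ c : Fin d → X.presheaf.stalk ((t ≫ I.subschemeι) w),
        a = ∑ l, c l • (ClSub.idealMod I).presheaf.germ ⊤ ((t ≫ I.subschemeι) w) trivial (s l) := by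
    intro w a
    obtain ⟨c, hc⟩ := Ideal.mem_span_range_iff_exists_fun.1
      (hgen w ((LiftVBLib.exists_idealIncl_iff I _ _).1 ⟨a, rfl⟩))
    refine ⟨c, LiftVBLib.idealIncl_injective I _ ?_⟩
    rw [map_sum, ← hc]
    exact Finset.sum_congr rfl fun l _ => by rw [map_smul, hs]; rfl
  have hkill' : ∀ (w : X₀) (r : X.presheaf.stalk ((t ≫ I.subschemeι) w)),
      r ∈ RingHom.ker ((t ≫ I.subschemeι).stalkMap w).hom →
      ∀ a : (ClSub.idealMod I).presheaf.stalk ((t ≫ I.subschemeι) w), r • a = 0 := by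
    intro w r hr a
    obtain ⟨c, rfl⟩ := hspan w a
    refine LiftVBLib.idealIncl_injective I _ ?_
    rw [map_smul, map_sum, map_zero, Finset.smul_sum]
    refine Finset.sum_eq_zero fun l _ => ?_
    rw [map_smul, hs, smul_eq_mul, smul_eq_mul, mul_left_comm, hkill w r hr l, mul_zero]
  haveI : IsIso ((Scheme.Modules.pullbackPushforwardAdjunction t).unit.app
      ((Scheme.Modules.pullback I.subschemeι).obj (ClSub.idealMod I))) := by
    refine isIso_unit_of_kill t _ fun w q hq m => ?_
    obtain ⟨a, rfl⟩ := JetLib.surjective_pullStalk I.subschemeι (ClSub.idealMod I) (t w) m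
    obtain ⟨r, rfl⟩ := I.subschemeι.stalkMap_surjective (t w) q
    rw [← pullStalk_smul]
    have hr : r ∈ RingHom.ker ((t ≫ I.subschemeι).stalkMap w).hom := by
      rw [RingHom.mem_ker, Scheme.Hom.stalkMap_comp]
      exact RingHom.mem_ker.1 hq
    rw [show r • a = 0 from hkill' w r hr a, map_zero]
  obtain ⟨φ⟩ := nonempty_pullback_free (t ≫ I.subschemeι) (ClSub.idealMod I) s hspan hkill' fun w c hc => hrel w c (by
    have h1 := congrArg (LiftVBLib.idealIncl I _) hc
    rw [map_sum, map_zero] at h1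
    refine Eq.trans (Finset.sum_congr rfl fun l _ => ?_) h1
    rw [map_smul, hs, smul_eq_mul, mul_comm])
  exact ⟨asIso ((Scheme.Modules.pullbackPushforwardAdjunction t).unit.app
      ((Scheme.Modules.pullback I.subschemeι).obj (ClSub.idealMod I))) ≪≫
    (Scheme.Modules.pushforward t).mapIso ((Scheme.Modules.pullbackComp t I.subschemeι).app _ ≪≫ φ)⟩

end Groth.Agent.DefVBLib
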