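import Groth.Agent.DefVBLib.Basic
import Groth.Agent.ProjSerreLib.SubExt
import Groth.Agent.AmpleVanLib.Descend
import Groth.Agent.DCohLib.ProjClosed
import Groth.Agent.PBundleLib.Coev
import Groth.Agent.DCohMore.DualFlf

/-!
# Extensions into the direct image of a free twist
-/

set_option autoImplicit false
set_option backward.isDefEq.respectTransparency false
set_option linter.style.haveILetI false
set_option maxHeartbeats 1000000

universe u

open CategoryTheory CategoryTheory.Limits AlgebraicGeometry TopologicalSpace Opposite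
open Groth.Agent.StalkHomLib
open Abelian (Ext)

noncomputable section

namespace Groth.Agent.DefVBLib

variable {X₀ Y : Scheme.{u}} (t : X₀ ⟶ Y) (E : Y.Modules)

/-- Inverse image and tensoring commute, naturally. -/
def tensPullIso : (DCoh.tensorBi (X := Y)).flip.obj E ⋙ Scheme.Modules.pullback t ≅
    Scheme.Modules.pullback t ⋙ (DCoh.tensorBi (X := X₀)).flip.obj ((Scheme.Modules.pullback t).obj E) :=
  NatIso.ofComponents (fun M => AmpleLib.pullTensor t M E)
    fun g => congrArg (fun τ => NatTrans.app τ E) ((DCohLib.pullTensorBiIsoSch t).hom.naturality g)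

/-- Internal Hom into a direct image. -/
def hFPushIso [ModSite.HasSheafHom (O := Y.sheaf) E]
    [ModSite.HasSheafHom (O := X₀.sheaf) ((Scheme.Modules.pullback t).obj E)] :
    Scheme.Modules.pushforward t ⋙ hF E ≅ hF ((Scheme.Modules.pullback t).obj E) ⋙ Scheme.Modules.pushforward t :=
  conjugateIsoEquiv ((ModSite.sheafHomAdj (O := Y.sheaf) E).comp (Scheme.Modules.pullbackPushforwardAdjunction t))
    ((Scheme.Modules.pullbackPushforwardAdjunction t).comp
      (ModSite.sheafHomAdj (O := X₀.sheaf) ((Scheme.Modules.pullback t).obj E))) (tensPullIso t E).symm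

variable [IsClosedImmersion t]

theorem subsingleton_ext_push [HasExt.{u} Y.Modules] (hE : FlatMod.IsFinLocFree E) {F₀ : X₀.Modules}
    [DCoh.HasSheafHom F₀] (φ : (Scheme.Modules.pullback t).obj E ≅ F₀) (i : ℕ)
    (h : Subsingleton (Coh.HH X₀ ((DCoh.sheafHom F₀).obj F₀) i)) :
    Subsingleton (Ext.{u} E ((Scheme.Modules.pushforward t).obj ((Scheme.Modules.pullback t).obj E)) i) := by
  haveI : ModSite.HasSheafHom (O := Y.sheaf) E := ModTensor.hasSheafHom (O := Y.sheaf) _
  let G₀ := (Scheme.Modules.pullback t).obj E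
  haveI : ModSite.HasSheafHom (O := X₀.sheaf) G₀ := ModTensor.hasSheafHom (O := X₀.sheaf) _
  let e₁ : ModSite.sheafHom (O := X₀.sheaf) G₀ ≅ DCoh.sheafHom F₀ :=
    Adjunction.rightAdjointUniq (ModSite.sheafHomAdj (O := X₀.sheaf) G₀)
      ((DCoh.sheafHomAdj F₀).ofNatIsoLeft ((DCoh.tensorBi (X := X₀)).mapIso φ.symm ≪≫
        (ModTensor.tensorSymm X₀.sheaf G₀).symm))
  have hG₀ := PullbackMod.isFinLocFree_pullback t E hE
  haveI := ((PullbackMod.isFinLocFree_iff G₀).mp hG₀).1
  haveI : Coh.IsQCoh (LocFreeHomLib.dualE G₀) :=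
    ((PullbackMod.isFinLocFree_iff _).mp (DCohMore.isFinLocFree_dual G₀ hG₀)).1
  haveI : Coh.IsQCoh ((hF G₀).obj G₀) := by
    haveI := LocFreeHomLib.isIso_alpha G₀ hG₀ G₀
    haveI := BCLib.isQCoh_tensorMod G₀ (LocFreeHomLib.dualE G₀)
    exact (SheafOfModules.isQuasicoherent X₀.ringCatSheaf).prop_of_iso (asIso (LocFreeHomLib.alpha G₀ G₀))
      ‹Coh.IsQCoh (CohB1.tensorMod G₀ (LocFreeHomLib.dualE G₀))›
  have h0 : Subsingleton (Coh.HH X₀ ((hF G₀).obj G₀) i) :=
    CurveLib.subsingleton_HH_iso (e₁.app G₀ ≪≫ (DCoh.sheafHom F₀).mapIso φ).symm i h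
  refine ProjSerreLib.subsingleton_ext_flf_gen hE ?_
  exact CurveLib.subsingleton_HH_iso ((hFPushIso t E).app G₀).symm i
    ((AmpleVanLib.subsingleton_HH_push_iff t ((hF G₀).obj G₀) i).2 h0)

/-- The coefficient module is a sum of copies of the restriction, pushed forward. -/
theorem subsingleton_ext_coeff [HasExt.{u} Y.Modules] {N : Y.Modules} {d : ℕ}
    (eN : N ≅ (Scheme.Modules.pushforward t).obj (FlatMod.freeMod X₀ d)) (i : ℕ)
    (h : Subsingleton (Ext.{u} E ((Scheme.Modules.pushforward t).obj ((Scheme.Modules.pullback t).obj E)) i)) :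
    Subsingleton (Ext.{u} E (CohB1.tensorMod N E) i) := by
  haveI : HasFiniteBiproducts Y.Modules := HasFiniteBiproducts.of_hasFiniteProducts
  haveI : HasFiniteBiproducts X₀.Modules := HasFiniteBiproducts.of_hasFiniteProducts
  let F₀ := (Scheme.Modules.pullback t).obj E
  let T := (DCoh.tensorBi (X := X₀)).flip.obj F₀
  haveI : T.Additive := Groth.Agent.ModTensor.additive_tensorBi_flip X₀.sheaf F₀
  haveI : (Scheme.Modules.pushforward t).Additive := inferInstance
  let a : CohB1.tensorMod N E ≅ (Scheme.Modules.pushforward t).obj (CohB1.tensorMod (FlatMod.freeMod X₀ d) F₀) :=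
    AmpleLib.tIso eN (Iso.refl E) ≪≫ DCohLib.projIso t (FlatMod.freeMod X₀ d) E
  let b : CohB1.tensorMod (FlatMod.freeMod X₀ d) F₀ ≅ ⨁ fun _ : Fin d => F₀ :=
    T.mapIso (biproduct.isoCoproduct fun _ : Fin d => Coh.structureModule X₀).symm ≪≫
      T.mapBiproduct _ ≪≫ biproduct.mapIso fun _ => AmpleLib.unitL F₀
  let c := a ≪≫ (Scheme.Modules.pushforward t).mapIso b ≪≫ (Scheme.Modules.pushforward t).mapBiproduct _
  haveI : ∀ _ : Fin d, Subsingleton (Ext.{u} E ((Scheme.Modules.pushforward t).obj F₀) i) := fun _ => h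
  haveI : Subsingleton (Ext.{u} E (⨁ fun _ : Fin d => (Scheme.Modules.pushforward t).obj F₀) i) :=
    (Ext.addEquivBiproduct E (biproduct.isBilimit _) i).toEquiv.subsingleton
  exact @ModLiftLib.subsingleton_ext_of_iso _ _ _ _ _ _ _ _ (Iso.refl E) c.symm i ‹_›

end Groth.Agent.DefVBLib
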