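import Groth.Prelude.Def_ArtFun4
import Groth.Agent.LiftVBLib.Stalk
import Groth.Agent.PCThickLib.Rel
import Groth.Agent.JetLib.Basic
import Groth.Agent.ThickBC.Basic
import Groth.Agent.CastLib.Regular

/-!
# The kernel of a semismall extension on a deformation
-/

set_option autoImplicit false
set_option backward.isDefEq.respectTransparency false
set_option backward.isDefEq.respectTransparency.types false
set_option linter.style.haveILetI false
set_option maxHeartbeats 1000000

universe u

open CategoryTheory CategoryTheory.Limits AlgebraicGeometry TopologicalSpace Opposite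
open ArtFun ArtFun.Art IsLocalRing

noncomputable section

namespace Groth.Agent.DefVBLib

/-- Over a flat algebra, relations between a basis of the kernel have coefficients in the maximal ideal. -/
theorem relation_mem {k : Type u} [Field k] {C' C : Art k k} {p : C' ⟶ C} (hp : IsSemismallExt p) {R : Type u}
    [CommRing R] (φ : C' →+* R) (hφ : φ.Flat) {d : ℕ} (b : Module.Basis (Fin d) k ↥(RingHom.ker p.toAlgHom))
    (r : Fin d → R) (h : ∑ l, φ (b l : C') * r l = 0) (l : Fin d) : r l ∈ (maximalIdeal C').map φ := by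
  letI := φ.toAlgebra
  haveI : Module.Flat C' R := hφ
  obtain ⟨κ, a, y, hy, ha⟩ := Module.Flat.isTrivialRelation_of_sum_smul_eq_zero (R := C') (M := R)
    (f := fun l => (b l : C')) (x := r) (by simp only [Algebra.smul_def]; exact h)
  rw [hy l]
  refine Ideal.sum_mem _ fun j _ => ?_
  rw [Algebra.smul_def]
  refine Ideal.mul_mem_right _ _ (Ideal.mem_map_of_mem φ ((mem_maximalIdeal_iff C' _).2 ?_))
  have hsum : ∑ i, C'.res (a i j) • b i = 0 := by
    refine Subtype.ext ?_
    rw [Submodule.coe_zero, AddSubmonoidClass.coe_finset_sum]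
    refine Eq.trans ?_ (ha j)
    refine Finset.sum_congr rfl fun i _ => ?_
    have hm : a i j - algebraMap k C' (C'.res (a i j)) ∈ maximalIdeal C' := by
      rw [mem_maximalIdeal_iff, map_sub, AlgHom.commutes]
      exact sub_self _
    have h2 := Ideal.mul_mem_mul hm (b i).2
    rw [hp.2, Ideal.mem_bot, sub_mul, sub_eq_zero] at h2
    show C'.res (a i j) • (b i : C') = (b i : C') * a i j
    rw [Algebra.smul_def, ← h2, mul_comm]
  exact Fintype.linearIndependent_iff.1 b.linearIndependent _ hsum l

theorem flat_toStalk {R : CommRingCat.{u}} (y : Spec R) :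
    ((Scheme.ΓSpecIso R).inv ≫ (Spec R).presheaf.germ ⊤ y trivial).hom.Flat := by
  letI : Algebra R ((Spec R).presheaf.stalk y) := StructureSheaf.stalkAlgebra R y
  haveI : IsLocalization.AtPrime ((Spec R).presheaf.stalk y) y.asIdeal := StructureSheaf.IsLocalization.to_stalk R y
  have h : (algebraMap R ((Spec R).presheaf.stalk y)).Flat :=
    RingHom.flat_algebraMap_iff.2 (IsLocalization.flat ((Spec R).presheaf.stalk y) y.asIdeal.primeCompl)
  exact h


variable {R : CommRingCat.{u}} {X' : Scheme.{u}} (f : X' ⟶ Spec R)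

/-- The structure map at a stalk. -/
def toSt (z : X') : R →+* X'.presheaf.stalk z :=
  (((Scheme.ΓSpecIso R).inv ≫ (Spec R).presheaf.germ ⊤ (f z) trivial) ≫ f.stalkMap z).hom

theorem flat_toSt [Flat f] (z : X') : (toSt f z).Flat :=
  RingHom.Flat.comp (flat_toStalk (f z)) (Flat.stalkMap f z)

theorem ker_stalkMap_baseChange {A : CommRingCat.{u}} (φ : R ⟶ A) (hφ : Function.Surjective φ.hom)
    {XA : Scheme.{u}} {iX : XA ⟶ X'} {fA : XA ⟶ Spec A} (hc : IsPullback iX fA f (Spec.map φ)) (w : XA) :
    RingHom.ker (iX.stalkMap w).hom = (RingHom.ker φ.hom).map (toSt f (iX w)) := by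
  haveI : IsClosedImmersion (Spec.map φ) := IsClosedImmersion.spec_of_surjective φ hφ
  haveI : IsClosedImmersion iX := MorphismProperty.of_isPullback hc.flip ‹_›
  rw [PCThick.ker_stalkMap_eq iX w, ThickBC.ker_of_isPullback hc, IdealStalkLib.stalkIdeal_comap,
    IdealStalkLib.stalkIdeal_eq _ ⟨⊤, isAffineOpen_top _⟩ _ trivial, Scheme.Hom.ker_apply, toSt]
  have hker : RingHom.ker ((Spec.map φ).app ⊤).hom = (RingHom.ker φ.hom).map (Scheme.ΓSpecIso R).inv.hom := by
    refine le_antisymm (fun r hr => ?_) ?_
    · have h1 : φ ((Scheme.ΓSpecIso R).hom r) = 0 := by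
        rw [← CategoryTheory.ConcreteCategory.comp_apply, ← Scheme.ΓSpecIso_naturality, CategoryTheory.ConcreteCategory.comp_apply]
        exact (congrArg (Scheme.ΓSpecIso A).hom hr).trans (map_zero _)
      have := Ideal.mem_map_of_mem (Scheme.ΓSpecIso R).inv.hom (RingHom.mem_ker.2 h1)
      rwa [show (Scheme.ΓSpecIso R).inv.hom ((Scheme.ΓSpecIso R).hom r) = r from
        ConcreteCategory.congr_hom (Scheme.ΓSpecIso R).hom_inv_id r] at this
    · refine Ideal.map_le_iff_le_comap.2 fun a ha => ?_
      show (Spec.map φ).app ⊤ ((Scheme.ΓSpecIso R).inv a) = 0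
      refine Eq.trans (ConcreteCategory.congr_hom (Scheme.ΓSpecIso_inv_naturality φ).symm a) ?_
      exact (congrArg (Scheme.ΓSpecIso A).inv (RingHom.mem_ker.1 ha)).trans (map_zero _)
  erw [hker]
  rw [Ideal.map_map, Ideal.map_map]
  rfl

end Groth.Agent.DefVBLib
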