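import Groth.Agent.DefVBLib.Ext
import Groth.Agent.RigidLib.Sch
import Groth.Agent.FpqcDesc.Basic
import Groth.Agent.DefExtLib.Class

/-!
# Deformations: the data of a semismall extension
-/

set_option autoImplicit false
set_option backward.isDefEq.respectTransparency false
set_option backward.isDefEq.respectTransparency.types false
set_option linter.style.haveILetI false
set_option maxHeartbeats 1000000

universe u

open CategoryTheory CategoryTheory.Limits AlgebraicGeometry TopologicalSpace Opposite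
open ArtFun ArtFun.Art IsLocalRing

noncomputable section

namespace Groth.Agent.DefVBLib

variable {k : Type u} [Field k] {X₀ : Scheme.{u}} {x : X₀ ⟶ Spec (CommRingCat.of k)} {C' C : Art k k} {p : C' ⟶ C}

theorem ker_le_maximalIdeal : RingHom.ker p.toAlgHom ≤ maximalIdeal C' := fun a ha => by
  rw [mem_maximalIdeal_iff, ← res_app p a, show p a = 0 from ha, map_zero]

/-- A deformation of a separated scheme is separated. -/
theorem isSeparated_total [IsSeparated x] (ξ : DefSch X₀ x C') : ξ.total.IsSeparated := by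
  haveI := RigidLib.isClosedImmersion_i ξ
  haveI := RigidLib.surjective_i ξ
  haveI : IsSeparated (terminal.from X₀) := by rw [← terminal.comp_from x]; infer_instance
  let m := pullback.map (terminal.from X₀) (terminal.from X₀) (terminal.from ξ.total) (terminal.from ξ.total)
    ξ.i ξ.i (𝟙 _) (by simp) (by simp)
  haveI : IsClosedImmersion m := MorphismProperty.pullbackMap (P := @IsClosedImmersion) (h₁ := ‹IsClosedImmersion ξ.i›) (h₂ := ‹IsClosedImmersion ξ.i›) (terminal.comp_from ξ.i).symm (terminal.comp_from ξ.i).symm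
  haveI : UniversallyClosed (ξ.i ≫ pullback.diagonal (terminal.from ξ.total)) := by
    rw [show ξ.i ≫ pullback.diagonal (terminal.from ξ.total) = pullback.diagonal (terminal.from X₀) ≫ m by
      apply pullback.hom_ext <;> simp [m]]
    infer_instance
  exact ⟨(FpqcDesc.isSeparated_iff_universallyClosed_diagonal _).2 (UniversallyClosed.of_comp_surjective ξ.i _)⟩

variable (hp : IsSemismallExt p) (ξ : DefSch X₀ x C')

/-- The ideal of the smaller deformation. -/
abbrev kerI (p : C' ⟶ C) : ξ.total.IdealSheafData := (pullback.fst ξ.f (specMap p)).ker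

include hp in
theorem isClosedImmersion_fst : IsClosedImmersion (pullback.fst ξ.f (specMap p)) := by
  haveI : IsClosedImmersion (specMap p) := IsClosedImmersion.spec_of_surjective _ hp.1
  infer_instance

include hp in
theorem sq_kerI : kerI ξ p ^ 2 = ⊥ := by
  haveI : IsClosedImmersion (specMap p) := IsClosedImmersion.spec_of_surjective _ hp.1
  have h0 : (specMap p).ker ^ 2 = ⊥ := by
    refine Scheme.IdealSheafData.ext_of_isAffine ?_
    show ((specMap p).ker ^ 2).ideal ⟨⊤, isAffineOpen_top _⟩ = (⊥ : Ideal _)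
    rw [Scheme.IdealSheafData.ideal_pow]
    refine le_bot_iff.1 ?_
    show ((specMap p).ker.ideal ⟨⊤, isAffineOpen_top _⟩) ^ 2 ≤ ⊥
    rw [pow_two, Scheme.Hom.ker_apply]
    let e := (Scheme.ΓSpecIso (CommRingCat.of C')).hom
    have he : ∀ r, r ∈ RingHom.ker ((specMap p).app ⊤).hom → (e r : C') ∈ RingHom.ker p.toAlgHom := fun r hr => by
      show (CommRingCat.ofHom p.toAlgHom.toRingHom) (e r) = 0
      rw [← CategoryTheory.ConcreteCategory.comp_apply, ← Scheme.ΓSpecIso_naturality, CategoryTheory.ConcreteCategory.comp_apply]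
      exact (congrArg (Scheme.ΓSpecIso _).hom hr).trans (map_zero _)
    refine Ideal.mul_le.2 fun a ha b hb => ?_
    have hmul : e a * e b = 0 := by
      have := Ideal.mul_mem_mul (ker_le_maximalIdeal (he a ha)) (he b hb)
      rwa [hp.2, Ideal.mem_bot] at this
    exact (Submodule.mem_bot _).2 ((ConcreteCategory.bijective_of_isIso e).1
      ((map_mul e.hom a b).trans (hmul.trans (map_zero e.hom).symm)))
  show (pullback.fst ξ.f (specMap p)).ker ^ 2 = ⊥
  rw [ThickBC.ker_of_isPullback (IsPullback.of_hasPullback ξ.f (specMap p))]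
  show ((specMap p).ker.comap ξ.f) ^ (1 + 1) = ⊥
  rw [← EtAlgEasy.PrinPartSym.comap_pow]
  show ((specMap p).ker ^ 2).comap ξ.f = ⊥
  rw [h0]
  exact le_bot_iff.1 ((Scheme.IdealSheafData.map_gc ξ.f).l_bot.le)

include hp in
/-- The smaller deformation is the closed subscheme of the ideal. -/
theorem exists_sub_iso : ∃ u : pullback ξ.f (specMap p) ≅ (kerI ξ p).subscheme,
    u.hom ≫ (kerI ξ p).subschemeι = pullback.fst ξ.f (specMap p) := by
  haveI := isClosedImmersion_fst hp ξ
  exact ⟨asIso (pullback.fst ξ.f (specMap p)).toImage, Scheme.Hom.toImage_imageι _⟩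

include hp in
/-- The coefficient module is free on the closed fibre. -/
theorem nonempty_coeff (u : pullback ξ.f (specMap p) ≅ (kerI ξ p).subscheme)
    (hu : u.hom ≫ (kerI ξ p).subschemeι = pullback.fst ξ.f (specMap p)) :
    ∃ d : ℕ, Nonempty ((Scheme.Modules.pullback (kerI ξ p).subschemeι).obj (ClSub.idealMod (kerI ξ p)) ≅
      (Scheme.Modules.pushforward ((ξ.baseChange p).i ≫ u.hom)).obj (FlatMod.freeMod X₀ d)) := by
  classical
  haveI := RigidLib.isClosedImmersion_i (ξ.baseChange p)
  haveI := RigidLib.surjective_i (ξ.baseChange p)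
  haveI : Module.Finite k ↥(RingHom.ker p.toAlgHom) := DefExtLib.finite_kerP p
  let b := Module.finBasis k ↥(RingHom.ker p.toAlgHom)
  let t : X₀ ⟶ (kerI ξ p).subscheme := (ξ.baseChange p).i ≫ u.hom
  haveI : IsClosedImmersion t := inferInstance
  haveI : Surjective t := inferInstance
  have ht : t ≫ (kerI ξ p).subschemeι = ξ.i := by
    show ((ξ.baseChange p).i ≫ u.hom) ≫ _ = _
    rw [Category.assoc, hu]
    exact DefSch.baseChange_i_fst ξ p
  let g : C' →+* Γ(ξ.total, ⊤) :=
    ((Scheme.ΓSpecIso (CommRingCat.of C')).inv ≫ ξ.f.appTop).hom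
  have hg : ∀ (z : ξ.total) (a : C'), (ξ.total.presheaf.germ ⊤ z trivial).hom (g a) = toSt ξ.f z a := fun z a =>
    (Scheme.Hom.germ_stalkMap_apply ξ.f ⊤ z trivial _).symm
  refine ⟨_, nonempty_idealMod_iso (kerI ξ p) t (fun l => g (b l : C')) (fun l => ?_) (fun w => ?_) (fun w r hr l => ?_)
    (fun w r h l => ?_)⟩
  · haveI : IsIso u.hom.appTop := inferInstanceAs (IsIso (u.hom.app ⊤))
    refine (ConcreteCategory.bijective_of_isIso u.hom.appTop).1 ?_
    rw [map_zero, ← CategoryTheory.ConcreteCategory.comp_apply, ← Scheme.Hom.comp_appTop, hu]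
    show ((pullback.fst ξ.f (specMap p)).appTop) (ξ.f.appTop ((Scheme.ΓSpecIso (CommRingCat.of C')).inv (b l : C'))) = 0
    rw [← CategoryTheory.ConcreteCategory.comp_apply ξ.f.appTop, ← Scheme.Hom.comp_appTop, pullback.condition,
      Scheme.Hom.comp_appTop, CategoryTheory.ConcreteCategory.comp_apply]
    refine (congrArg _ ?_).trans (map_zero _)
    refine Eq.trans (ConcreteCategory.congr_hom (Scheme.ΓSpecIso_inv_naturality (CommRingCat.ofHom p.toAlgHom.toRingHom)).symm _) ?_
    exact (congrArg (Scheme.ΓSpecIso _).inv (show (CommRingCat.ofHom p.toAlgHom.toRingHom) (b l : C') = 0 from (b l).2)).trans (map_zero _)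
  · haveI := isClosedImmersion_fst hp ξ
    rw [show (t ≫ (kerI ξ p).subschemeι) w = pullback.fst ξ.f (specMap p) ((ξ.baseChange p).i w) by
      rw [ht, ← Scheme.Hom.comp_apply, DefSch.baseChange_i_fst]]
    rw [← PCThick.ker_stalkMap_eq (pullback.fst ξ.f (specMap p)) ((ξ.baseChange p).i w),
      ker_stalkMap_baseChange ξ.f (CommRingCat.ofHom p.toAlgHom.toRingHom) hp.1
        (IsPullback.of_hasPullback ξ.f (specMap p)) ((ξ.baseChange p).i w)]
    refine Ideal.map_le_iff_le_comap.2 fun a ha => ?_
    have hsum : (∑ l, ((b.repr ⟨a, ha⟩ l) • b l : ↥(RingHom.ker p.toAlgHom)) : ↥(RingHom.ker p.toAlgHom)).1 = a :=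
      congrArg Subtype.val (b.sum_repr ⟨a, ha⟩)
    rw [AddSubmonoidClass.coe_finsetSum] at hsum
    refine Ideal.mem_comap.2 ?_
    rw [← hsum, map_sum]
    refine Ideal.sum_mem _ fun l _ => ?_
    rw [show ((b.repr ⟨a, ha⟩ l • b l : ↥(RingHom.ker p.toAlgHom)) : C') = b.repr ⟨a, ha⟩ l • (b l : C') from rfl,
      Algebra.smul_def, map_mul]
    refine Ideal.mul_mem_left _ _ (Ideal.subset_span ⟨l, ?_⟩)
    exact hg _ _
  · have key : ∀ (j : X₀ ⟶ ξ.total), j = ξ.i → ∀ r ∈ RingHom.ker (j.stalkMap w).hom,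
        r * (ξ.total.presheaf.germ ⊤ (j w) trivial).hom (g (b l : C')) = 0 := by
      rintro _ rfl r hr
      rw [ker_stalkMap_baseChange ξ.f (CommRingCat.ofHom C'.res.toRingHom) C'.res_surjective ξ.isPullback w] at hr
      rw [hg]
      induction hr using Submodule.span_induction with
      | mem v hv =>
        obtain ⟨a, ha, rfl⟩ := hv
        rw [← map_mul]
        have := Ideal.mul_mem_mul ((mem_maximalIdeal_iff C' a).2 ha) (b l).2
        rw [hp.2, Ideal.mem_bot] at this
        rw [this, map_zero]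
      | zero => rw [zero_mul]
      | add v v' _ _ hv hv' => rw [add_mul, hv, hv', add_zero]
      | smul c v _ hv => rw [smul_eq_mul, mul_assoc, hv, mul_zero]
    exact key _ ht r hr
  · have key : ∀ (j : X₀ ⟶ ξ.total), j = ξ.i → ∀ r : Fin _ → ξ.total.presheaf.stalk (j w),
        ∑ l, (ξ.total.presheaf.germ ⊤ (j w) trivial).hom (g (b l : C')) * r l = 0 →
          ∀ l, r l ∈ RingHom.ker (j.stalkMap w).hom := by
      rintro _ rfl r hr l
      rw [ker_stalkMap_baseChange ξ.f (CommRingCat.ofHom C'.res.toRingHom) C'.res_surjective ξ.isPullback w]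
      simp only [hg] at hr
      refine Ideal.map_mono (fun a ha => ?_) (relation_mem hp _ (flat_toSt ξ.f _) b r hr l)
      exact (mem_maximalIdeal_iff C' a).1 ha
    exact key _ ht r h l

include hp in
/-- Vanishing of the group controlling lifts. -/
theorem subsingleton_ext (u : pullback ξ.f (specMap p) ≅ (kerI ξ p).subscheme)
    (hu : u.hom ≫ (kerI ξ p).subschemeι = pullback.fst ξ.f (specMap p))
    {F : (ξ.baseChange p).total.Modules} (hF : FlatMod.IsFinLocFree F)
    [DCoh.HasSheafHom ((Scheme.Modules.pullback (ξ.baseChange p).i).obj F)] (i : ℕ)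
    [HasExt.{u} (kerI ξ p).subscheme.Modules]
    (h : Subsingleton (Coh.HH X₀ ((DCoh.sheafHom ((Scheme.Modules.pullback (ξ.baseChange p).i).obj F)).obj
      ((Scheme.Modules.pullback (ξ.baseChange p).i).obj F)) i)) :
    Subsingleton (Abelian.Ext.{u} ((Scheme.Modules.pullback u.inv).obj F)
      (CohB1.tensorMod ((Scheme.Modules.pullback (kerI ξ p).subschemeι).obj (ClSub.idealMod (kerI ξ p)))
        ((Scheme.Modules.pullback u.inv).obj F)) i) := by
  haveI := RigidLib.isClosedImmersion_i (ξ.baseChange p)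
  obtain ⟨d, ⟨eN⟩⟩ := nonempty_coeff hp ξ u hu
  refine subsingleton_ext_coeff ((ξ.baseChange p).i ≫ u.hom) _ eN i ?_
  refine subsingleton_ext_push ((ξ.baseChange p).i ≫ u.hom) _ (PullbackMod.isFinLocFree_pullback _ _ hF) ?_ i h
  exact (Scheme.Modules.pullbackComp ((ξ.baseChange p).i ≫ u.hom) u.inv).app F ≪≫
    (Scheme.Modules.pullbackCongr (show ((ξ.baseChange p).i ≫ u.hom) ≫ u.inv = (ξ.baseChange p).i by
      rw [Category.assoc, u.hom_inv_id, Category.comp_id])).app F

end Groth.Agent.DefVBLib
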